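import Groth.Prelude.Def_KRR
import Groth.Prelude.Def_Omega2

/-!
# S3777 from S3775 and S3776

`of`: the filtration statement for the composite `p ∘ i`, `i : X ⟶ P^n_Y` a regular closed immersion,
from the statement for `i` (S3775, over the base `P^n_Y`) and for `p` (S3776).
-/

set_option autoImplicit false
universe v u
open CategoryTheory CategoryTheory.Limits AlgebraicGeometry
open KRR

namespace Groth.Agent.Krr.H476.S3777Of

/-- The composition step: `h3775` is the conclusion of S3775 for `i : X ⟶ P^n_Y`, `h3776` that of S3776. -/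
theorem of {KX : Type v} [CommRing KX] [LambdaRing.LambdaOps KX] (PX : LambdaRing.PosStructure KX)
    {KP : Type v} [CommRing KP] [LambdaRing.LambdaOps KP] (PP : LambdaRing.PosStructure KP)
    {KY : Type v} [CommRing KY] [LambdaRing.LambdaOps KY] (PY : LambdaRing.PosStructure KY)
    (n c : ℕ) (a : KX →+ KP) (b : KP →+ KY)
    (h3775 : ∀ (k : ℕ) (x : KX), x ∈ LambdaRing.gammaFiltration PX k →
      ∃ N : ℕ, 1 ≤ N ∧ (N : KP) * a x ∈ LambdaRing.gammaFiltration PP (k + c))
    (h3776 : ∀ (k : ℕ) (x : KP), x ∈ LambdaRing.gammaFiltration PP k →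
      b x ∈ LambdaRing.gammaFiltration PY (k - n))
    (k : ℕ) (x : KX) (hx : x ∈ LambdaRing.gammaFiltration PX k) :
    ∃ N : ℕ, 1 ≤ N ∧ (N : KY) * b (a x) ∈ LambdaRing.gammaFiltration PY (k + c - n) := by
  obtain ⟨N, hN, h⟩ := h3775 k x hx
  refine ⟨N, hN, ?_⟩
  have h1 := h3776 (k + c) _ h
  have h2 : b ((N : KP) * a x) = (N : KY) * b (a x) := by
    rw [← nsmul_eq_mul, ← nsmul_eq_mul, map_nsmul]
  rwa [h2] at h1

end Groth.Agent.Krr.H476.S3777Of
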